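import Cfsg.Agent.Lib.Functor.Engine

/-!
# The engine restricted to an invariant class of subgroups

As `engine`, but the local step is asked only for the subgroups in a conjugation invariant class;
outside the class the automizers have to be accounted for by larger subgroups.
-/

set_option autoImplicit false

namespace Cfsg.Agent.Lib.Functor

open Subgroup

variable {G : Type*} [Group G] {p : ℕ}

/-- The engine over the conjugation invariant class `good`. -/
theorem engineOn [Finite G] [Fact p.Prime] {S : Subgroup G} {R : Subgroup G → G → Prop}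
    {good : Subgroup G → Prop}
    (hS : IsSylowIn p ⊤ S) (hR : IsFusionProp S R)
    (hgood : ∀ (U : Subgroup G) (h : G), good U → good (cj h U))
    (hcentral : ∀ C : Subgroup G, C ≠ ⊥ → C ≤ S → ¬ good C →
      IsSylowIn p (normalizer (C : Set G)) (S ⊓ normalizer (C : Set G)) →
      (∀ (B : Subgroup G) (g : G), B ≤ S → cj g B ≤ S → Nat.card C < Nat.card B → R B g) →
      ∀ x ∈ normalizer (C : Set G), R C x)
    (hstep : ∀ U : Subgroup G, U ≠ ⊥ → U ≤ S → good U →
      IsSylowIn p (normalizer (U : Set G)) (S ⊓ normalizer (U : Set G)) →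
      (∀ U' : Subgroup G, U' ≠ ⊥ → U' ≤ S → good U' →
        Nat.card ↥(S ⊓ normalizer (U : Set G)) < Nat.card ↥(S ⊓ normalizer (U' : Set G)) →
        LocalGoal S R U') →
      (∀ (B : Subgroup G) (g : G), B ≤ S → cj g B ≤ S →
        Nat.card ↥(S ⊓ normalizer (U : Set G)) < Nat.card B → R B g) →
      LocalGoal S R U) :
    (∀ (B : Subgroup G) (g : G), B ≤ S → cj g B ≤ S → R B g) ∧
      (∀ U : Subgroup G, U ≠ ⊥ → U ≤ S → good U → LocalGoal S R U) := by
  suffices H : ∀ d : ℕ,
      (∀ (B : Subgroup G) (g : G), B ≤ S → cj g B ≤ S → Nat.card S < Nat.card B + d → R B g) ∧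
      (∀ U : Subgroup G, U ≠ ⊥ → U ≤ S → good U →
        Nat.card S < Nat.card ↥(S ⊓ normalizer (U : Set G)) + d → LocalGoal S R U) by
    have key := H (Nat.card S + 1)
    exact ⟨fun B g hB hgB => key.1 B g hB hgB (by omega),
      fun U h1 h2 h3 => key.2 U h1 h2 h3 (by omega)⟩
  intro d
  induction d with
  | zero =>
    refine ⟨fun B g hB _ hd => ?_, fun U _ _ _ hd => ?_⟩
    · have := card_le_of_le hB; omega
    · have := card_le_of_le (inf_le_left : S ⊓ normalizer (U : Set G) ≤ S); omega
  | succ d ih =>
    -- first, general fusion for subgroups of this order that are proper in `S`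
    have hA : ∀ (B : Subgroup G) (g : G), B ≤ S → cj g B ≤ S → B ≠ S →
        Nat.card S < Nat.card B + (d + 1) → R B g := by
      intro B g hB hgB hne hd
      by_cases hbot : B = ⊥
      · subst hbot; exact hR.bot g
      obtain ⟨h, h1, h2, -⟩ := exists_fullyNormalized hS hB
      set B' := cj g B with hB'
      have hne' : B' ≠ S := fun h' => hne (eq_of_le_of_card_ge hB (by rw [← h', card_cj]))
      obtain ⟨k, k1, k2, k3⟩ := exists_fullyNormalized hS hgB
      have hlt := Set.Finite.card_lt_card (Set.toFinite _) (lt_inf_normalizer hS.isPGroup hB hne)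
      have hlt' :=
        Set.Finite.card_lt_card (Set.toFinite _) (lt_inf_normalizer hS.isPGroup hgB hne')
      simp only [SetLike.coe_sort_coe] at hlt hlt'
      rw [card_cj] at hlt'
      set C := cj k B' with hC
      have hCne : C ≠ ⊥ := by
        rw [hC, hB', Ne, cj_eq_bot_iff, cj_eq_bot_iff]; exact hbot
      -- `k` and `h` are accounted for on `B'` and `B`, as they extend to larger subgroups
      have hk : R B' k := hR.restrict inf_le_left (k2.trans inf_le_left)
        (le_inf hgB le_normalizer)
        (ih.1 _ k inf_le_left (k2.trans inf_le_left) (by omega))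
      have hh : R B h := hR.restrict inf_le_left (h2.trans inf_le_left)
        (le_inf hB le_normalizer)
        (ih.1 _ h inf_le_left (h2.trans inf_le_left) (by omega))
      -- compare the two fully normalized conjugates inside `N(C)`
      obtain ⟨m, m1, m2, m3⟩ := exists_fullyNormalized hS (k1 : C ≤ S)
      let n := k * g * h⁻¹
      have hnC : cj n (cj h B) = C := by
        simp [n, hC, hB', cj_cj, mul_assoc]
      -- move `N_S(cj h B)` into `N_S(C)` inside `N(C)`
      have hsub : cj n (S ⊓ normalizer ((cj h B : Subgroup G) : Set G)) ≤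
          normalizer (C : Set G) := by
        refine (cj_mono n inf_le_right).trans ?_
        rw [cj_normalizer, hnC]
      obtain ⟨x, hx, hxle⟩ := k3.exists_cj_le hsub
        (isPGroup_cj (hS.isPGroup.to_le inf_le_left))
      rw [cj_cj] at hxle
      have hlt'' : Nat.card B < Nat.card ↥(S ⊓ normalizer ((cj h B : Subgroup G) : Set G)) :=
        lt_of_lt_of_le hlt ((card_cj h _).symm.le.trans (card_le_of_le h2))
      have hxn : R (cj h B) (x * n) := hR.restrict inf_le_left (hxle.trans inf_le_left)
        (le_inf h1 le_normalizer)
        (ih.1 _ _ inf_le_left (hxle.trans inf_le_left) (by omega))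
      have hCB : Nat.card C = Nat.card B := by rw [hC, hB', card_cj, card_cj]
      have hltC : Nat.card B < Nat.card ↥(S ⊓ normalizer (C : Set G)) :=
        lt_of_lt_of_le hlt' ((card_cj k _).symm.le.trans (card_le_of_le k2))
      -- the remaining element normalizes `C`
      have hxinv : R C x⁻¹ := by
        by_cases hgC : good C
        · refine ih.2 C hCne k1 hgC (by omega) x⁻¹ (inv_mem hx) C (le_inf k1 le_normalizer) ?_
          rw [cj_eq_self_of_mem (inv_mem hx)]
          exact le_inf k1 le_normalizer
        · exact hcentral C hCne k1 hgC k3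
            (fun D g' hD hgD hlt' => ih.1 D g' hD hgD (by omega)) x⁻¹ (inv_mem hx)
      have hxC : cj (x * n) (cj h B) = C := by
        rw [← cj_cj, hnC, cj_eq_self_of_mem hx]
      have hn : R (cj h B) n := by
        have := hR.comp (h := x⁻¹) h1 (by rw [hxC]; exact k1)
          (by rw [inv_mul_cancel_left, hnC]; exact k1) hxn (by rw [hxC]; exact hxinv)
        rwa [inv_mul_cancel_left] at this
      have hkg : R B (k * g) := by
        have h3 : k * g = n * h := by simp [n]
        rw [h3]
        exact hR.comp hB h1 (by rw [← h3, ← cj_cj]; exact k1) hh hn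
      have hkinv : R C k⁻¹ := hR.symm hgB k1 hk
      have := hR.comp (h := k⁻¹) hB (by rw [← cj_cj]; exact k1)
        (by rw [inv_mul_cancel_left]; exact hgB) hkg (by rw [← cj_cj]; exact hkinv)
      rwa [inv_mul_cancel_left] at this
    -- next, the local goals for subgroups with normalizer of this order
    have hB : ∀ U : Subgroup G, U ≠ ⊥ → U ≤ S → good U →
        Nat.card S < Nat.card ↥(S ⊓ normalizer (U : Set G)) + (d + 1) → LocalGoal S R U := by
      intro U hU hUS hUg hd
      have full : ∀ V : Subgroup G, V ≠ ⊥ → V ≤ S → good V →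
          IsSylowIn p (normalizer (V : Set G)) (S ⊓ normalizer (V : Set G)) →
          Nat.card S < Nat.card ↥(S ⊓ normalizer (V : Set G)) + (d + 1) →
          LocalGoal S R V := fun V hV hVS hVg hVN hVd =>
        hstep V hV hVS hVg hVN (fun W hW hWS hWg hlt => ih.2 W hW hWS hWg (by omega))
          (fun B g hB hgB hlt => ih.1 B g hB hgB (by omega))
      by_cases hQ : S ⊓ normalizer (U : Set G) = S
      · refine full U hU hUS hUg ?_ hd
        rw [hQ]
        exact hS.inter (inf_eq_left.mp hQ) le_top
      · obtain ⟨h, h1, h2, h3⟩ := exists_fullyNormalized hS hUS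
        set Q := S ⊓ normalizer (U : Set G) with hQdef
        have hQS : Q ≤ S := inf_le_left
        have hRh : R Q h := hA Q h hQS (h2.trans inf_le_left) hQ hd
        have hgoal : LocalGoal S R (cj h U) := by
          refine full _ (by rw [Ne, cj_eq_bot_iff]; exact hU) h1 (hgood U h hUg) h3 ?_
          have := (card_cj h Q).symm.le.trans (card_le_of_le h2)
          omega
        intro g hg B hB hgB
        have hB1 : cj h B ≤ S ⊓ normalizer ((cj h U : Subgroup G) : Set G) :=
          (cj_mono h hB).trans h2
        have hB2 : cj h (cj g B) ≤ S ⊓ normalizer ((cj h U : Subgroup G) : Set G) :=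
          (cj_mono h hgB).trans h2
        have e : cj (h * g * h⁻¹) (cj h B) = cj h (cj g B) := by
          simp [cj_cj, mul_assoc]
        have r1 : R B h := hR.restrict hQS (h2.trans inf_le_left) hB hRh
        have r2 : R (cj h B) (h * g * h⁻¹) := hgoal _
          (by rw [← cj_normalizer]; exact conj_mem_cj hg) _ hB1 (by rw [e]; exact hB2)
        have e2 : h * g * h⁻¹ * h = h * g := by simp
        have r3 : R B (h * g) := by
          rw [← e2]
          exact hR.comp (hB.trans hQS) (hB1.trans inf_le_left)
            (by rw [e2, ← cj_cj]; exact hB2.trans inf_le_left) r1 r2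
        have r4 : R (cj h (cj g B)) h⁻¹ :=
          hR.symm (hgB.trans hQS) (hB2.trans inf_le_left)
            (hR.restrict hQS (h2.trans inf_le_left) hgB hRh)
        have := hR.comp (h := h⁻¹) (hB.trans hQS) (by rw [← cj_cj]; exact hB2.trans inf_le_left)
          (by rw [inv_mul_cancel_left]; exact hgB.trans hQS) r3 (by rw [← cj_cj]; exact r4)
        rwa [inv_mul_cancel_left] at this
    refine ⟨fun B g hBS hgB hd => ?_, hB⟩
    by_cases hne : B = S
    · subst hne
      by_cases hbot : B = ⊥
      · subst hbot; exact hR.bot g
      have hg : g ∈ normalizer (B : Set G) := mem_normalizer_of_cj_le hgB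
      by_cases hgd : good B
      · exact hB B hbot le_rfl hgd (by rw [inf_eq_left.mpr le_normalizer]; omega) g hg B
          (le_inf le_rfl le_normalizer) (le_inf hgB (hgB.trans le_normalizer))
      · refine hcentral B hbot le_rfl hgd ?_ (fun D g' hD _ hlt => ?_) g hg
        · rw [inf_eq_left.mpr le_normalizer]
          exact hS.inter le_normalizer le_top
        · exact absurd (card_le_of_le hD) (by omega)
    · exact hA B g hBS hgB hne hd

end Cfsg.Agent.Lib.Functor
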