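import Cfsg.Agent.Lib.Functor.EngineOn
import Cfsg.Agent.Lib.Functor.Reduction
import Cfsg.Agent.Lib.Qd.ZJFunctor
import Cfsg.Agent.Lib.ZJ.Constrained
import Cfsg.Agent.Lib.ZJ.Involve

/-!
# `N(Z(J(S)))` controls strong fusion when the normalizers of the subgroups over `Z(S)` are `SL₂(p)`-free
-/

set_option autoImplicit false

namespace Cfsg.Agent.Lib.Functor

open Subgroup Cfsg

universe u

/-- No subgroup of `H` maps onto `SL₂(p)`. -/
def NoSLTwo (p : ℕ) {G : Type*} [Group G] (H : Subgroup G) : Prop :=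
  ∀ (K : Subgroup G) (φ : K →* Matrix.SpecialLinearGroup (Fin 2) (ZMod p)), K ≤ H →
    ¬ Function.Surjective φ

variable {G : Type u} [Group G] {p : ℕ}

theorem NoSLTwo.cj {H : Subgroup G} (h : NoSLTwo p H) (g : G) : NoSLTwo p (cj g H) := by
  intro K φ hK hφ
  refine h (Functor.cj g⁻¹ K)
    (φ.comp (K.equivMapOfInjective (MulAut.conj g⁻¹).toMonoidHom
      (MulAut.conj g⁻¹).injective).symm.toMonoidHom) ?_ (hφ.comp (MulEquiv.surjective _))
  calc Functor.cj g⁻¹ K ≤ Functor.cj g⁻¹ (Functor.cj g H) := cj_mono _ hK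
    _ = H := cj_inv_cj g H

theorem noSLTwo_of_no_section {H : Subgroup G}
    (h : ¬ ∃ (A B : Subgroup G) (_ : (B.subgroupOf A).Normal), A ≤ H ∧
      Nonempty ((A ⧸ B.subgroupOf A) ≃* Matrix.SpecialLinearGroup (Fin 2) (ZMod p))) :
    NoSLTwo p H := by
  intro K φ hK hφ
  obtain ⟨A, B, hn, hA, he⟩ := SectionLift.exists_section K φ
    (MonoidHom.id (Matrix.SpecialLinearGroup (Fin 2) (ZMod p))) Function.injective_id
    (by rw [MonoidHom.range_eq_top.2 hφ]; exact le_top)
  exact h ⟨A, B, hn, hA.trans hK, he⟩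

/-- A group involved in an `SL₂(p)`-free subgroup has stable Sylow subgroups. -/
theorem stableOn_of_noSLTwo [Finite G] [Fact p.Prime] (hp : p ≠ 2) {N : Subgroup G}
    (hN : NoSLTwo p N) {Y : Type u} [Group Y] [Finite Y] (hY : Involves Y N) {T : Subgroup Y}
    (hT : IsPGroup p T) : ZJ.StableOn p T := by
  intro P _ hP A hAT hq
  refine ZJ.map_le_pCore_of_stableAt P ?_
  by_contra hst
  obtain ⟨A', B', hn, ⟨e⟩⟩ := ZJ.exists_sl2_section_of_not_stableAt hp hP
    (fun a _ => (normalizer_eq_top P).symm ▸ mem_top a) hq hst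
  let ψ : A' →* Matrix.SpecialLinearGroup (Fin 2) (ZMod p) :=
    e.toMonoidHom.comp (QuotientGroup.mk' _)
  have hψ : Function.Surjective ψ := e.surjective.comp (QuotientGroup.mk'_surjective _)
  obtain ⟨K, φ, hφ⟩ := exists_hom_of_involves hY
  let L : Subgroup N := (A'.comap φ).map K.subtype
  refine hN (L.map N.subtype)
    ((ψ.comp ((φ.subgroupComap A').comp
      ((A'.comap φ).equivMapOfInjective _ K.subtype_injective).symm.toMonoidHom)).comp
        (L.equivMapOfInjective _ N.subtype_injective).symm.toMonoidHom)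
    (map_subtype_le L) ?_
  exact ((hψ.comp ((φ.subgroupComap_surjective_of_surjective A' hφ).comp
    (MulEquiv.surjective _))).comp (MulEquiv.surjective _))

theorem center_le_zj [Finite G] {S Q : Subgroup G} (hQS : Q ≤ S)
    (hZ : S ⊓ centralizer (S : Set G) ≤ Q) :
    S ⊓ centralizer (S : Set G) ≤ centerThompsonAOf Q := by
  rw [← ZJ.zj_zero_eq]
  intro z hz
  exact ZJ.mem_zj.2 fun A hA => ZJ.mem_of_commute hA (hZ hz) (pow_zero _)
    fun a ha => (mem_centralizer_iff.1 hz.2 a (hQS (hA.1 ha))).symm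

/-- Control of strong fusion, as `FamRel`, under the local hypothesis. -/
theorem famRel_zj_of_local [Finite G] [Fact p.Prime] (hp : p ≠ 2) (S : Sylow p G)
    (hfree : ∀ U : Subgroup G, (S : Subgroup G) ⊓ centralizer ((S : Subgroup G) : Set G) ≤ U →
      U ≤ S → NoSLTwo p (normalizer (U : Set G))) :
    ∀ (B : Subgroup G) (g : G), B ≤ S → cj g B ≤ S →
      FamRel (indFam {Qd.zjFun.{u}} G) (S : Subgroup G) B g := by
  have h𝓦 := singleton_charPFunctor (Qd.zjFun_isCharPFunctor.{u} p)
  have hS := isSylowIn_top_of_sylow S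
  set Z := (S : Subgroup G) ⊓ centralizer ((S : Subgroup G) : Set G) with hZdef
  refine (engineOn (good := fun U => NoSLTwo p (normalizer (U : Set G))) hS
    (famRel_isFusionProp _) ?_ ?_ ?_).1
  · intro U h hU
    rw [← cj_normalizer]
    exact hU.cj h
  · intro C _ hCS hbad hC ih x hx
    obtain ⟨z, hz, hzC⟩ := SetLike.not_le_iff_exists.1
      (fun hle : Z ≤ C => hbad (hfree C hle hCS))
    set T := (S : Subgroup G) ⊓ normalizer (C : Set G) with hT
    set E := T ⊓ centralizer (C : Set G) with hE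
    have hEC : IsSylowIn p (centralizer (C : Set G)) E := by
      refine hC.inf_normal (centralizer_le_normalizer _) ?_
      intro n hn
      refine mem_normalizer_of_cj_le (cj_le_iff.2 fun c hc => ?_)
      refine mem_centralizer_iff.2 fun a ha => ?_
      have := mem_centralizer_iff.1 hc _ ((mem_normalizer_iff''.1 hn a).1 ha)
      calc a * (n * c * n⁻¹) = n * ((n⁻¹ * a * n) * c) * n⁻¹ := by group
        _ = n * (c * (n⁻¹ * a * n)) * n⁻¹ := by rw [this]
        _ = n * c * n⁻¹ * a := by group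
    have hxE : cj x E ≤ centralizer (C : Set G) := by
      refine cj_le_iff.2 fun c hc => ?_
      refine mem_centralizer_iff.2 fun a ha => ?_
      have := mem_centralizer_iff.1 hc.2 _ ((mem_normalizer_iff''.1 hx a).1 ha)
      calc a * (x * c * x⁻¹) = x * ((x⁻¹ * a * x) * c) * x⁻¹ := by group
        _ = x * (c * (x⁻¹ * a * x)) * x⁻¹ := by rw [this]
        _ = x * c * x⁻¹ * a := by group
    obtain ⟨c, hc, hcle⟩ := hEC.exists_cj_le hxE (isPGroup_cj hEC.isPGroup)
    rw [cj_cj] at hcle
    have hcC : cj (c * x) C = C := by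
      rw [← cj_cj, cj_eq_self_of_mem hx, cj_eq_self_of_mem (centralizer_le_normalizer _ hc)]
    have hD : cj (c * x) (C ⊔ E) ≤ (S : Subgroup G) := by
      rw [cj, Subgroup.map_sup]
      exact sup_le (le_of_eq_of_le hcC hCS) (hcle.trans (inf_le_left.trans inf_le_left))
    have hlt : C < C ⊔ E := by
      refine lt_of_le_of_ne le_sup_left fun he => hzC ?_
      have hzc : z ∈ centralizer (C : Set G) := centralizer_le (SetLike.coe_subset_coe.2 hCS) hz.2
      exact he ▸ mem_sup_right ⟨⟨hz.1, centralizer_le_normalizer _ hzc⟩, hzc⟩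
    have hR := ih (C ⊔ E) (c * x) (sup_le hCS (inf_le_left.trans inf_le_left)) hD
      (Set.Finite.card_lt_card (Set.toFinite _) hlt)
    refine famRel_congr (fun b hb => ?_) ((famRel_isFusionProp _).restrict
      (sup_le hCS (inf_le_left.trans inf_le_left)) hD le_sup_left hR)
    have hb' : x * b * x⁻¹ ∈ C := (mem_normalizer_iff.1 hx b).1 hb
    calc c * x * b * (c * x)⁻¹ = c * (x * b * x⁻¹) * c⁻¹ := by group
      _ = x * b * x⁻¹ * c * c⁻¹ := by rw [mem_centralizer_iff.1 hc _ hb']
      _ = x * b * x⁻¹ := by group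
  · intro U hU hUS hgood hUN ihU _ g hg B hB hgB
    set N := normalizer (U : Set G) with hN
    set Q := (S : Subgroup G) ⊓ N with hQdef
    have hfam : FamilyControlsStrongFusionIn p (indFam {Qd.zjFun.{u}} N) ⊤ := by
      refine familyControls_of_constrained_sections h𝓦 N fun Y _ _ hY hc => ?_
      obtain ⟨T⟩ : Nonempty (Sylow p Y) := inferInstance
      refine familyControls_top_of_famRel T fun B' g' hB' hgB' => ?_
      refine famRel_single hB' hgB' (W := inducedFunctor Qd.zjFun.{u}) ⟨_, rfl, rfl⟩ ?_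
      have hn := ZJ.zj_normal hp (Or.inl rfl) hc T (stableOn_of_noSLTwo hp hgood hY T.2)
      rw [Qd.inducedFunctor_zjFun, ← ZJ.zj_zero_eq, normalizer_eq_top_iff.2 hn]
      exact mem_top g'
    obtain ⟨n, c, c0, c1, c2, c3⟩ := localRel_of_controls_subgroup h𝓦 hUN hfam hg hB hgB
    refine famRel_congr c3 (rel_of_chain (famRel_isFusionProp _) inf_le_left
      (fun B hB => famRel_refl hB (by simp)) n c0 c2 fun i hi D hD hD' => ?_)
    obtain ⟨V, hV, hV'⟩ := c1 i hi
    have hW := inducedFamily_isConjugacyFunctor h𝓦 V hV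
    obtain ⟨V₀, rfl, rfl⟩ := hV
    by_cases hQ : Q = (S : Subgroup G)
    · exact famRel_single (hD.trans inf_le_left) (hD'.trans inf_le_left) ⟨_, rfl, rfl⟩
        (hQ ▸ hV'.2)
    have hQp : IsPGroup p Q := S.2.to_le inf_le_left
    have hQne : Q ≠ ⊥ := ne_bot_of_le_ne_bot hU (le_inf hUS le_normalizer)
    have hWQ : inducedFunctor Qd.zjFun.{u} Q ≤ Q := inducedFunctor_le Q
    have hgood' : NoSLTwo p (normalizer ((inducedFunctor Qd.zjFun.{u} Q : Subgroup G) : Set G)) := by
      refine hfree _ ?_ (hWQ.trans inf_le_left)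
      rw [Qd.inducedFunctor_zjFun]
      refine center_le_zj inf_le_left (le_inf inf_le_left fun z hz => centralizer_le_normalizer _ ?_)
      exact centralizer_le (SetLike.coe_subset_coe.2 hUS) hz.2
    have hsub : Q ≤ (S : Subgroup G) ⊓ normalizer ((inducedFunctor Qd.zjFun.{u} Q : Subgroup G) : Set G) :=
      le_inf inf_le_left (le_normalizer.trans (normalizer_le_normalizer_functor hW hQp))
    exact ihU _ (functor_ne_bot hW hQp hQne) (hWQ.trans inf_le_left) hgood'
      (card_lt_card_inf_normalizer_functor S.2 hW hQ) _ hV'.2 D (hD.trans hsub) (hD'.trans hsub)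

/-- **Glauberman**: elements of `S` conjugate in `G` are conjugate in `N(Z(J(S)))`. -/
theorem exists_mem_normalizer_zj [Finite G] [Fact p.Prime] (hp : p ≠ 2) (S : Sylow p G)
    (hfree : ∀ U : Subgroup G, (S : Subgroup G) ⊓ centralizer ((S : Subgroup G) : Set G) ≤ U →
      U ≤ S → NoSLTwo p (normalizer (U : Set G)))
    {B : Subgroup G} {g : G} (hB : B ≤ S) (hgB : cj g B ≤ S) :
    ∃ n ∈ normalizer (centerThompsonAOf (S : Subgroup G) : Set G),
      ∀ b ∈ B, n * b * n⁻¹ = g * b * g⁻¹ := by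
  obtain ⟨n, c, c0, c1, -, c3⟩ := famRel_zj_of_local hp S hfree B g hB hgB
  refine ⟨c n, ?_, c3⟩
  suffices ∀ i ≤ n, c i ∈ normalizer (centerThompsonAOf (S : Subgroup G) : Set G) from this n le_rfl
  intro i
  induction i with
  | zero => intro _; rw [c0]; exact one_mem _
  | succ i ih =>
    intro hi
    obtain ⟨_, ⟨V', rfl, rfl⟩, hV⟩ := c1 i (by omega)
    simp only [Qd.inducedFunctor_zjFun] at hV
    simpa using mul_mem hV (ih (by omega))

end Cfsg.Agent.Lib.Functor
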