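import Cfsg.Agent.Lib.KInfinity.Stability
import Cfsg.Agent.Lib.PSolvable.Core

/-!
# `p`-length one groups with abelian `p'`-part modulo `O_p` are `p`-stable for odd `p`

The key point: if the norms of all conjugates of `g` vanish on an irreducible module `A`, then
`g` acts trivially.
-/

namespace Cfsg.Agent.Lib.Functor

open Subgroup Cfsg
open scoped commutatorElement

variable {p : ℕ}

section Module

variable {A : Type*} [CommGroup A] [Finite A] [Fact p.Prime]

omit [Finite A] in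
theorem norm_conj {B : Subgroup (MulAut A)} {g : MulAut A}
    (hnorm : ∀ a : A, ∏ i ∈ Finset.range p, (g ^ i) a = 1) {k : MulAut A} (_hk : k ∈ B) (a : A) :
    ∏ i ∈ Finset.range p, (k * g ^ i * k⁻¹) a = 1 := by
  have h := congrArg k (hnorm (k⁻¹ a))
  rw [map_prod, map_one] at h
  exact h

omit [Finite A] in
theorem pow_eq_one_of_norm {g : MulAut A} (hnorm : ∀ a : A, ∏ i ∈ Finset.range p, (g ^ i) a = 1) :
    g ^ p = 1 := by
  refine MulEquiv.ext fun a => ?_
  have h1 := congrArg g (hnorm a)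
  rw [map_prod, map_one] at h1
  have h2 : ∏ i ∈ Finset.range p, g ((g ^ i) a) = ∏ i ∈ Finset.range p, (g ^ (i + 1)) a :=
    Finset.prod_congr rfl fun i _ => by rw [pow_succ', MulAut.mul_apply]
  rw [h2] at h1
  have h3 := Finset.prod_range_succ' (fun i => (g ^ i) a) p
  rw [Finset.prod_range_succ, hnorm a, one_mul, h1, one_mul] at h3
  simpa using h3

/-- If the norms of the conjugates of `g` under the abelian `p'`-group `Kb` vanish, `g`
centralizes `Kb`. -/
theorem commute_of_norm {g : MulAut A} (hA : IsPGroup p A) {Kb : Subgroup (MulAut A)}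
    [Finite Kb] (hcomm : ∀ a ∈ Kb, ∀ b ∈ Kb, a * b = b * a) (hco : (Nat.card Kb).Coprime p)
    (hgK : ∀ k ∈ Kb, g * k * g⁻¹ ∈ Kb)
    (hnorm : ∀ a : A, ∏ i ∈ Finset.range p, (g ^ i) a = 1) :
    ∀ k ∈ Kb, k * g = g * k := by
  classical
  have hp : p.Prime := Fact.out
  have := Fintype.ofFinite Kb
  let φ : ℕ → MulAut A → MulAut A := fun i k => k * (g ^ i * k⁻¹ * (g ^ i)⁻¹)
  have hgi : ∀ (i : ℕ), ∀ k ∈ Kb, g ^ i * k * (g ^ i)⁻¹ ∈ Kb := by
    intro i
    induction i with
    | zero => intro k hk; simpa using hk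
    | succ i ih =>
      intro k hk
      have := hgK _ (ih k hk)
      have e : g ^ (i + 1) * k * (g ^ (i + 1))⁻¹ = g * (g ^ i * k * (g ^ i)⁻¹) * g⁻¹ := by
        rw [pow_succ']; group
      rwa [e]
  have hφK : ∀ i, ∀ k ∈ Kb, φ i k ∈ Kb := fun i k hk => mul_mem hk (hgi i _ (inv_mem hk))
  have hgp := pow_eq_one_of_norm hnorm
  -- the images of the maps `φ i`
  have hmul : ∀ i, ∀ k ∈ Kb, ∀ l ∈ Kb, φ i (k * l) = φ i k * φ i l := by
    intro i k hk l hl
    have e : φ i (k * l) = k * (l * (g ^ i * l⁻¹ * (g ^ i)⁻¹)) * (g ^ i * k⁻¹ * (g ^ i)⁻¹) := by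
      simp only [φ]; group
    rw [e, mul_assoc, hcomm _ (hφK i l hl) _ (hgi i _ (inv_mem hk)), ← mul_assoc]
  let Im : ℕ → Subgroup (MulAut A) := fun i =>
    { carrier := {l | ∃ k ∈ Kb, φ i k = l}
      one_mem' := ⟨1, one_mem _, by simp [φ]⟩
      mul_mem' := by
        rintro _ _ ⟨k, hk, rfl⟩ ⟨l, hl, rfl⟩
        exact ⟨k * l, mul_mem hk hl, hmul i k hk l hl⟩
      inv_mem' := by
        rintro _ ⟨k, hk, rfl⟩
        refine ⟨k⁻¹, inv_mem hk, eq_inv_of_mul_eq_one_left ?_⟩
        rw [← hmul i _ (inv_mem hk) _ hk]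
        simp [φ] }
  intro k0 hk0
  set l := φ 1 k0 with hl
  have hlK : l ∈ Kb := hφK 1 k0 hk0
  have hmem : ∀ i ∈ Finset.range p, i ≠ 0 → l ∈ Im i := by
    intro i hi hi0
    rw [Finset.mem_range] at hi
    obtain ⟨j, -, hj⟩ := Nat.exists_mul_mod_eq_one_of_coprime
      ((Nat.coprime_of_lt_prime hi0 hi hp).symm) hp.one_lt
    have hij : g ^ (i * j) = g := by
      rw [← Nat.mod_add_div (i * j) p, hj, pow_add, pow_mul, hgp, one_pow, mul_one, pow_one]
    have hall : ∀ j : ℕ, φ (i * j) k0 ∈ Im i := by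
      intro j
      induction j with
      | zero =>
        have : φ (i * 0) k0 = 1 := by simp [φ]
        rw [this]; exact one_mem _
      | succ j ih =>
        have e : φ (i * (j + 1)) k0 = φ (i * j) k0 * φ i (g ^ (i * j) * k0 * (g ^ (i * j))⁻¹) := by
          simp only [φ, Nat.mul_succ, pow_add]
          group
        rw [e]
        exact mul_mem ih ⟨_, hgi _ k0 hk0, rfl⟩
    have h1 := hall j
    have h2 : φ (i * j) k0 = l := by simp [φ, hl, hij]
    rwa [h2] at h1
  -- `l` fixes the `|Kb|`-th powers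
  have hfix : ∀ a : A, l (a ^ Fintype.card Kb) = a ^ Fintype.card Kb := by
    intro a
    let F : ℕ → A := fun i => ∏ k : Kb, ((k : MulAut A) * g ^ i * (k : MulAut A)⁻¹) a
    have htot : ∏ i ∈ Finset.range p, F i = 1 := by
      rw [Finset.prod_comm]
      exact Finset.prod_eq_one fun k _ => norm_conj (B := Kb) hnorm k.2 a
    have hzero : F 0 = a ^ Fintype.card Kb := by simp [F, Finset.prod_const]
    rw [← Finset.mul_prod_erase _ F (Finset.mem_range.mpr hp.pos)] at htot
    have hF : a ^ Fintype.card Kb = (∏ i ∈ (Finset.range p).erase 0, F i)⁻¹ := by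
      rw [← hzero]; exact eq_inv_of_mul_eq_one_left htot
    rw [hF, map_inv, map_prod]
    refine congrArg _ (Finset.prod_congr rfl fun i hi => ?_)
    rw [Finset.mem_erase] at hi
    obtain ⟨k1, hk1, hk1l⟩ := hmem i hi.2 hi.1
    show l (∏ k : Kb, ((k : MulAut A) * g ^ i * (k : MulAut A)⁻¹) a) = F i
    rw [map_prod]
    refine Fintype.prod_equiv (Equiv.mulLeft ⟨k1, hk1⟩) _ _ fun k => ?_
    show l (((k : MulAut A) * g ^ i * (k : MulAut A)⁻¹) a) =
      (((⟨k1, hk1⟩ * k : Kb) : MulAut A) * g ^ i * (((⟨k1, hk1⟩ * k : Kb) : MulAut A))⁻¹) a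
    rw [← MulAut.mul_apply]
    refine DFunLike.congr_fun ?_ a
    simp only [Subgroup.coe_mul, ← hk1l, φ]
    have h3 : k1 * (g ^ i * k1⁻¹ * (g ^ i)⁻¹) * ((k : MulAut A) * g ^ i * (k : MulAut A)⁻¹) =
        k1 * ((g ^ i * k1⁻¹ * (g ^ i)⁻¹) * (k : MulAut A)) * g ^ i * (k : MulAut A)⁻¹ := by group
    rw [h3, hcomm _ (hgi i _ (inv_mem hk1)) _ k.2]
    calc k1 * ((k : MulAut A) * (g ^ i * k1⁻¹ * (g ^ i)⁻¹)) * g ^ i * (k : MulAut A)⁻¹
        = k1 * (k : MulAut A) * g ^ i * (k1⁻¹ * (k : MulAut A)⁻¹) := by group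
      _ = k1 * (k : MulAut A) * g ^ i * (k1 * (k : MulAut A))⁻¹ := by
          rw [mul_inv_rev, hcomm _ (inv_mem k.2) _ (inv_mem hk1)]
  have hl1 : l = 1 := by
    refine MulEquiv.ext fun a => ?_
    obtain ⟨n, hn⟩ := IsPGroup.iff_card.mp hA
    have hc : (Nat.card A).Coprime (Fintype.card Kb) := by
      rw [hn, ← Nat.card_eq_fintype_card]
      exact hco.symm.pow_left n
    obtain ⟨b, rfl⟩ := (powCoprime hc).surjective a
    exact hfix b
  rw [hl] at hl1
  simp only [φ, pow_one] at hl1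
  calc k0 * g = k0 * (g * k0⁻¹ * g⁻¹) * (g * k0) := by group
    _ = g * k0 := by rw [hl1, one_mul]

/-- An element with vanishing norms in an irreducible group of `p`-length one with abelian
`p'`-core is trivial. -/
theorem eq_one_of_norm (hA : IsPGroup p A) {B Kb : Subgroup (MulAut A)} (hKB : Kb ≤ B)
    (hirr : ∀ F : Subgroup A, (∀ b ∈ B, ∀ a ∈ F, b a ∈ F) → F = ⊥ ∨ F = ⊤)
    (hnormal : ∀ b ∈ B, ∀ k ∈ Kb, b * k * b⁻¹ ∈ Kb)
    (hcomm : ∀ a ∈ Kb, ∀ b ∈ Kb, a * b = b * a) (hco : (Nat.card Kb).Coprime p)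
    (hquot : ∀ b ∈ B, ∃ n : ℕ, b ^ p ^ n ∈ Kb) {g : MulAut A} (hg : g ∈ B)
    (hnorm : ∀ a : A, ∏ i ∈ Finset.range p, (g ^ i) a = 1) : g = 1 := by
  classical
  have hp : p.Prime := Fact.out
  rcases subsingleton_or_nontrivial A with hAs | hAn
  · exact MulEquiv.ext fun a => Subsingleton.elim _ _
  have : Finite (MulAut A) := Finite.of_injective (fun f : MulAut A => (f : A → A))
    DFunLike.coe_injective
  have hgK := commute_of_norm hA hcomm hco (hnormal g hg) hnorm
  -- the centralizer of `Kb` in `B`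
  set D := B ⊓ centralizer (Kb : Set (MulAut A)) with hD
  have hKD : Kb ≤ D := le_inf hKB fun k hk l hl => hcomm l hl k hk
  have hgD : g ∈ D := ⟨hg, hgK⟩
  set Kd := Kb.subgroupOf D with hKd
  have hKdc : Kd ≤ center D := fun k hk => mem_center_iff.mpr fun d =>
    Subtype.ext (d.2.2 _ (mem_subgroupOf.mp hk)).symm
  haveI hKdn : Kd.Normal := by
    refine ⟨fun k hk d => ?_⟩
    rw [mem_center_iff.mp (hKdc hk) d, mul_inv_cancel_right]
    exact hk
  have hq : IsPGroup p (D ⧸ Kd) := by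
    intro x
    induction x using QuotientGroup.induction_on with
    | H d =>
      obtain ⟨n, hn⟩ := hquot d d.2.1
      exact ⟨n, by rw [← QuotientGroup.mk_pow, QuotientGroup.eq_one_iff, hKd, mem_subgroupOf];
                   simpa using hn⟩
  obtain ⟨S⟩ : Nonempty (Sylow p D) := Sylow.nonempty
  have hcardK : Nat.card Kd = Nat.card Kb := Nat.card_congr (subgroupOfEquivOfLe hKD).toEquiv
  have hsup : (S : Subgroup D) ⊔ Kd = ⊤ := by
    obtain ⟨a, ha⟩ := IsPGroup.iff_card.mp hq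
    have hdiv : Nat.card (S : Subgroup D) * Nat.card Kd ∣
        Nat.card ↥((S : Subgroup D) ⊔ Kd) := by
      refine Nat.Coprime.mul_dvd_of_dvd_of_dvd ?_ (card_dvd_of_le le_sup_left)
        (card_dvd_of_le le_sup_right)
      obtain ⟨s, hs⟩ := IsPGroup.iff_card.mp S.isPGroup'
      rw [hs, hcardK]
      exact hco.symm.pow_left s
    refine eq_top_of_le_card _ (Nat.le_of_dvd Nat.card_pos ((?_ : _ ∣ _).trans hdiv))
    have h1 := card_eq_card_quotient_mul_card_subgroup Kd
    rw [h1]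
    refine mul_dvd_mul_right ?_ _
    rw [ha]
    exact S.pow_dvd_card_of_pow_dvd_card (by rw [h1, ha]; exact dvd_mul_right _ _)
  haveI hSn : (S : Subgroup D).Normal := by
    rw [← normalizer_eq_top_iff, eq_top_iff, ← hsup]
    exact sup_le le_normalizer ((hKdc.trans (center_le_centralizer _)).trans
      (centralizer_le_normalizer _))
  -- the `p`-elements of `D`
  have hSmem : ∀ d : D, (∃ n, d ^ p ^ n = 1) → d ∈ (S : Subgroup D) := by
    rintro d ⟨n, hn⟩
    obtain ⟨a, ha⟩ := (Nat.dvd_prime_pow hp).mp (orderOf_dvd_of_pow_eq_one hn)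
    have hz : IsPGroup p (zpowers d) := IsPGroup.of_card (n := a) (by rw [Nat.card_zpowers, ha.2])
    obtain ⟨T, hT⟩ := hz.exists_le_sylow
    obtain ⟨x, rfl⟩ := MulAction.exists_smul_eq D S T
    have : x • S = S := by
      rw [Sylow.smul_eq_iff_mem_normalizer]
      exact (normalizer_eq_top_iff.mpr hSn).symm ▸ mem_top x
    rw [this] at hT
    exact hT (mem_zpowers d)
  set SA := (S : Subgroup D).map D.subtype with hSA
  have hgS : g ∈ SA := ⟨⟨g, hgD⟩, hSmem _ ⟨1, Subtype.ext (by simpa using pow_eq_one_of_norm hnorm)⟩,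
    rfl⟩
  have hSnB : ∀ b ∈ B, ∀ s ∈ SA, b * s * b⁻¹ ∈ SA := by
    rintro b hb _ ⟨⟨s, hs⟩, hsS, rfl⟩
    have hbs : b * s * b⁻¹ ∈ D := by
      refine ⟨B.mul_mem (B.mul_mem hb hs.1) (B.inv_mem hb), fun k hk => ?_⟩
      have h1 : b⁻¹ * k * b ∈ Kb := by simpa using hnormal b⁻¹ (inv_mem hb) k hk
      calc k * (b * s * b⁻¹) = b * (b⁻¹ * k * b * s) * b⁻¹ := by group
        _ = b * (s * (b⁻¹ * k * b)) * b⁻¹ := by rw [hs.2 _ h1]
        _ = b * s * b⁻¹ * k := by group
    obtain ⟨n, hn⟩ := S.isPGroup' ⟨⟨s, hs⟩, hsS⟩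
    refine ⟨⟨_, hbs⟩, hSmem _ ⟨n, Subtype.ext ?_⟩, rfl⟩
    have hn0 := congrArg Subtype.val (congrArg Subtype.val hn)
    have hn' : s ^ p ^ n = 1 := by simpa using hn0
    show (b * s * b⁻¹) ^ p ^ n = 1
    rw [conj_pow, hn', mul_one, mul_inv_cancel]
  -- fixed points
  let F : Subgroup A :=
    { carrier := {a | ∀ s ∈ SA, s a = a}
      one_mem' := fun s _ => map_one s
      mul_mem' := fun {a b} ha hb s hs => by rw [map_mul, ha s hs, hb s hs]
      inv_mem' := fun {a} ha s hs => by rw [map_inv, ha s hs] }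
  have hFB : ∀ b ∈ B, ∀ a ∈ F, b a ∈ F := by
    intro b hb a ha s hs
    have h1 : b⁻¹ * s * b ∈ SA := by simpa using hSnB b⁻¹ (inv_mem hb) s hs
    have h2 := congrArg b (ha _ h1)
    simpa [MulAut.mul_apply] using h2
  rcases hirr F hFB with h | h
  · exfalso
    have hSAp : IsPGroup p SA := S.isPGroup'.map _
    obtain ⟨k, hk0, hk⟩ := hA.nontrivial_iff_card.mp hAn
    obtain ⟨b, hb, hb1⟩ := hSAp.exists_fixed_point_of_prime_dvd_card_of_fixed_point A
      (hk ▸ dvd_pow_self p (by omega)) (a := (1 : A)) (fun s => map_one (s : MulAut A))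
    have hbF : b ∈ F := fun s hs => hb ⟨s, hs⟩
    rw [h, mem_bot] at hbF
    exact hb1 hbF.symm
  · refine MulEquiv.ext fun a => ?_
    exact (h ▸ mem_top a : a ∈ F) g hgS

end Module

/-! ### Thin groups -/

/-- A `p`-group, an abelian `p'`-group and a `p`-group on top. -/
def IsThin (p : ℕ) (X : Type*) [Group X] : Prop :=
  ∃ H K : Subgroup X, H.Normal ∧ K.Normal ∧ IsPGroup p H ∧
    (∀ x ∈ K, ∀ y ∈ K, ⁅x, y⁆ ∈ H) ∧ (∀ x ∈ K, ∃ m : ℕ, m.Coprime p ∧ x ^ m ∈ H) ∧
    ∀ x : X, ∃ n : ℕ, x ^ p ^ n ∈ K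

theorem IsThin.subgroup {X : Type*} [Group X] (h : IsThin p X) (N : Subgroup X) : IsThin p N := by
  obtain ⟨H, K, hH, hK, h1, h2, h3, h4⟩ := h
  refine ⟨H.subgroupOf N, K.subgroupOf N, hH.subgroupOf N, hK.subgroupOf N,
    h1.comap_of_injective N.subtype N.subtype_injective, fun x hx y hy => ?_, fun x hx => ?_,
    fun x => ?_⟩
  · rw [mem_subgroupOf]; exact h2 _ hx _ hy
  · obtain ⟨m, hm, hmx⟩ := h3 _ hx
    exact ⟨m, hm, by rw [mem_subgroupOf]; simpa using hmx⟩
  · obtain ⟨n, hn⟩ := h4 x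
    exact ⟨n, by rw [mem_subgroupOf]; simpa using hn⟩

theorem IsThin.of_surjective {X Y : Type*} [Group X] [Group Y] (h : IsThin p X) {f : X →* Y}
    (hf : Function.Surjective f) : IsThin p Y := by
  obtain ⟨H, K, hH, hK, h1, h2, h3, h4⟩ := h
  refine ⟨H.map f, K.map f, hH.map f hf, hK.map f hf, h1.map f, ?_, ?_, ?_⟩
  · rintro _ ⟨x, hx, rfl⟩ _ ⟨y, hy, rfl⟩
    exact ⟨_, h2 x hx y hy, map_commutatorElement f x y⟩
  · rintro _ ⟨x, hx, rfl⟩
    obtain ⟨m, hm, hmx⟩ := h3 x hx
    exact ⟨m, hm, _, hmx, map_pow f x m⟩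
  · intro y
    obtain ⟨x, rfl⟩ := hf y
    obtain ⟨n, hn⟩ := h4 x
    exact ⟨n, _, hn, map_pow f x _⟩

/-- In a thin group degree `p - 1` on a chief factor below a normal `p`-subgroup is degree one. -/
theorem commutator_le_of_thin {X : Type*} [Group X] [Finite X] [Fact p.Prime] (hX : IsThin p X)
    {U V : Subgroup X} (hUV : IsChiefFactor U V) (hUp : IsPGroup p U) {g : X}
    (hg : iterCommutator U (zpowers g) (p - 1) ≤ V) : ∀ u ∈ U, ⁅u, g⁆ ∈ V := by
  classical
  obtain ⟨H, K, hHn, hKn, hHp, hKc, hKm, hXK⟩ := hX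
  obtain ⟨hlt, hUn, hVn, hmax⟩ := id hUV
  haveI := hVn
  let f := QuotientGroup.mk' V
  have hfs := QuotientGroup.mk'_surjective V
  set Ab := U.map f with hAb
  haveI hAn : Ab.Normal := hUn.map f hfs
  have hAp : IsPGroup p Ab := hUp.map f
  have hAc : ∀ a b : Ab, a * b = b * a := by
    rintro ⟨_, a, ha, rfl⟩ ⟨_, b, hb, rfl⟩
    refine Subtype.ext ?_
    show f a * f b = f b * f a
    rw [← commutatorElement_eq_one_iff_mul_comm, ← map_commutatorElement]
    exact (QuotientGroup.eq_one_iff _).mpr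
      ((chiefFactor_abelian hUV hUp).1 (commutator_mem_commutator ha hb))
  let _ : CommGroup Ab := { mul_comm := hAc }
  let ρ : X →* MulAut Ab := (MulAut.conjNormal (H := Ab)).comp f
  have hρ : ∀ (x : X) (a : Ab), ((ρ x a : Ab) : X ⧸ V) = f x * a * (f x)⁻¹ := fun x a => rfl
  -- `H` acts trivially
  haveI := hHn
  haveI := hUn
  have hHU : IsPGroup p ↥(H ⊔ U) := hHp.to_sup_of_normal_right hUp
  have hHtriv : ∀ x ∈ H, ρ x = 1 := by
    intro x hx
    refine MulEquiv.ext fun a => Subtype.ext ?_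
    obtain ⟨_, u, hu, rfl⟩ := a
    rw [hρ, MulAut.one_apply]
    show f x * f u * (f x)⁻¹ = f u
    have h1 := KInfinity.commutator_chiefFactor_le hHU hUV le_sup_right
      (commutator_mem_commutator hu (mem_sup_left hx : x ∈ H ⊔ U))
    have h2 : f u * f x = f x * f u := by
      rw [← commutatorElement_eq_one_iff_mul_comm, ← map_commutatorElement]
      exact (QuotientGroup.eq_one_iff _).mpr h1
    rw [← h2, mul_inv_cancel_right]
  have hKb : ∀ y ∈ K.map ρ, (orderOf y).Coprime p := by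
    rintro _ ⟨x, hx, rfl⟩
    obtain ⟨m, hm, hmx⟩ := hKm x hx
    refine Nat.Coprime.coprime_dvd_left ?_ hm
    refine orderOf_dvd_of_pow_eq_one ?_
    rw [← map_pow]
    exact hHtriv _ hmx
  have : Finite (MulAut Ab) := Finite.of_injective (fun e : MulAut Ab => (e : Ab → Ab))
    DFunLike.coe_injective
  have hco : (Nat.card (K.map ρ)).Coprime p := by
    rw [Nat.coprime_comm, (Fact.out : p.Prime).coprime_iff_not_dvd]
    intro hd
    obtain ⟨y, hy⟩ := exists_prime_orderOf_dvd_card' (G := K.map ρ) p hd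
    have h1 := hKb _ y.2
    rw [Subgroup.orderOf_coe, hy, Nat.coprime_self] at h1
    exact (Fact.out : p.Prime).one_lt.ne' h1
  have hnorm : ∀ a : Ab, ∏ i ∈ Finset.range p, ((ρ g) ^ i) a = 1 := by
    rintro ⟨_, u, hu, rfl⟩
    have hnm := norm_mem_of_iterCommutator_le hUV hUp hg hu
    refine Subtype.ext ?_
    have hpr : ∀ n, ((∏ i ∈ Finset.range n, ((ρ g) ^ i) ⟨f u, mem_map_of_mem f hu⟩ : Ab) : X ⧸ V)
        = f ((List.range n).map fun i => g ^ i * u * (g ^ i)⁻¹).prod := by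
      intro n
      induction n with
      | zero => simp
      | succ n ih =>
        rw [Finset.prod_range_succ, Subgroup.coe_mul, ih, List.range_succ, List.map_append,
          List.prod_append, map_mul, ← map_pow ρ, hρ]
        simp
    rw [hpr p]
    exact (QuotientGroup.eq_one_iff _).mpr hnm
  have hone : ρ g = 1 := by
    refine eq_one_of_norm hAp (B := ρ.range) (Kb := K.map ρ) (map_le_range ρ K) ?_ ?_ ?_ hco ?_
      ⟨g, rfl⟩ hnorm
    · intro F hF
      have hFn : (F.map Ab.subtype).Normal := by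
        refine ⟨?_⟩
        rintro _ ⟨a, ha, rfl⟩ y
        obtain ⟨x, rfl⟩ := hfs y
        exact ⟨ρ x a, hF _ ⟨x, rfl⟩ a ha, hρ x a⟩
      have hmapc : ((F.map Ab.subtype).comap f).map f = F.map Ab.subtype :=
        map_comap_eq_self_of_surjective hfs _
      rcases hmax _ (hFn.comap f)
        (fun v hv => by
          show f v ∈ F.map Ab.subtype
          rw [show f v = 1 from (QuotientGroup.eq_one_iff v).mpr hv]; exact one_mem _)
        ((comap_mono (map_subtype_le F)).trans (by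
          rw [hAb, comap_map_eq, QuotientGroup.ker_mk', sup_eq_left.mpr hlt.le])) with h | h
      · left
        refine (map_eq_bot_iff_of_injective _ Ab.subtype_injective).mp ?_
        rw [← hmapc, h, Subgroup.map_eq_bot_iff, QuotientGroup.ker_mk']
      · right
        refine map_injective Ab.subtype_injective ?_
        rw [← hmapc, h, ← MonoidHom.range_eq_map, range_subtype]
    · rintro _ ⟨x, rfl⟩ _ ⟨k, hk, rfl⟩
      exact ⟨x * k * x⁻¹, hKn.conj_mem k hk x, by simp⟩
    · rintro _ ⟨a, ha, rfl⟩ _ ⟨b, hb, rfl⟩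
      rw [← commutatorElement_eq_one_iff_mul_comm, ← map_commutatorElement]
      exact hHtriv _ (hKc a ha b hb)
    · rintro _ ⟨x, rfl⟩
      obtain ⟨n, hn⟩ := hXK x
      exact ⟨n, _, hn, map_pow ρ x _⟩
  intro u hu
  refine (QuotientGroup.eq_one_iff _).mp ?_
  show f ⁅u, g⁆ = 1
  have h3 := congrArg Subtype.val (DFunLike.congr_fun hone ⟨f u, mem_map_of_mem f hu⟩)
  rw [hρ, MulAut.one_apply, mul_inv_eq_iff_eq_mul] at h3
  rw [map_commutatorElement, commutatorElement_eq_one_iff_mul_comm]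
  exact h3.symm

/-- Thin groups are `p`-stable for odd `p`. -/
theorem IsThin.isNormalizerPStable {X : Type*} [Group X] [Finite X] [Fact p.Prime]
    (hX : IsThin p X) (hp : p ≠ 2) : IsNormalizerPStable p X := by
  intro P hP g hg hq
  set N := normalizer (P : Set X) with hN
  set C := (centralizer (P : Set X)).subgroupOf N with hC
  let P' := P.subgroupOf N
  haveI hP'n : P'.Normal := normal_in_normalizer
  have hP' : IsPGroup p P' := hP.comap_of_injective N.subtype N.subtype_injective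
  have hP'map : P'.map N.subtype = P := by
    rw [subgroupOf_map_subtype, inf_eq_left.mpr le_normalizer]
  set g' : N := ⟨g, hg⟩ with hg'
  have h2 : 2 ≤ p - 1 := by
    have := (Fact.out : p.Prime).two_le
    omega
  have hqq : ⁅⁅P', zpowers g'⁆, zpowers g'⁆ = ⊥ := by
    rw [← map_eq_bot_iff_of_injective _ N.subtype_injective, map_commutator, map_commutator,
      hP'map, MonoidHom.map_zpowers]
    exact hq
  have hdeg : ∀ k U, U ≤ P' → iterCommutator U (zpowers g') (k + 2) = ⊥ := by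
    intro k
    induction k with
    | zero =>
      intro U hU
      exact le_bot_iff.mp ((commutator_mono (commutator_mono hU le_rfl) le_rfl).trans hqq.le)
    | succ k ih =>
      intro U hU
      show ⁅iterCommutator U (zpowers g') (k + 2), zpowers g'⁆ = ⊥
      rw [ih U hU, commutator_bot_left]
  have hgs : g' ∈ KInfinity.seriesKer P' := by
    rw [KInfinity.mem_seriesKer]
    intro U V hUV hUP u hu
    refine commutator_le_of_thin (hX.subgroup N) hUV (hP'.to_le hUP) ?_ u hu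
    obtain ⟨k, hk⟩ := Nat.exists_eq_add_of_le' h2
    rw [hk, hdeg k U hUP]
    exact bot_le
  haveI := KInfinity.seriesKer_normal P'
  have hR : IsPGroup p ((KInfinity.seriesKer P').map (QuotientGroup.mk' C)) := by
    refine KInfinity.isPGroup_of_coprime_eq_one _ fun x hx hco => ?_
    refine (QuotientGroup.eq_one_iff x).mpr ?_
    rw [hC, mem_subgroupOf]
    intro y hy
    exact congrArg Subtype.val
      (KInfinity.seriesKer_coprime_centralizes hP' hx hco ⟨y, le_normalizer hy⟩ hy)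
  exact @Cfsg.Agent.Lib.PSolvable.le_pCore _ _ p _
    ((KInfinity.seriesKer_normal P').map _ (QuotientGroup.mk'_surjective C)) hR _
    (mem_map_of_mem _ hgs)

end Cfsg.Agent.Lib.Functor
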