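import Cfsg.Agent.Lib.Functor.NPCReduction
import Cfsg.Agent.Lib.Functor.ThinStable
import Cfsg.Agent.Lib.Functor.Sections

/-!
# Normal `p`-complement criteria in functor form
-/

namespace Cfsg.Agent.Lib.Functor

open Subgroup Cfsg
open Cfsg.Agent.Lib.ThompsonNPC
open scoped commutatorElement

universe u

variable {p : ℕ} [Fact p.Prime]

open scoped Classical in
/-- The normalizer of `W S` as a local subgroup. -/
noncomputable def functorLoc (p : ℕ) (W : ∀ (Q : Type u) [Group Q], Subgroup Q) {G : Type u}
    [Group G] (S : Subgroup G) : Subgroup G :=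
  if Finite S ∧ IsPGroup p S then normalizer ((inducedFunctor W S : Subgroup G) : Set G) else ⊥

theorem functorLoc_eq (W : ∀ (Q : Type u) [Group Q], Subgroup Q) {G : Type u} [Group G] [Finite G]
    {S : Subgroup G} (hS : IsPGroup p S) :
    functorLoc p W S = normalizer ((inducedFunctor W S : Subgroup G) : Set G) := by
  rw [functorLoc, if_pos ⟨inferInstance, hS⟩]

/-- The local family of a characteristic `p`-functor. -/
noncomputable def functorFamily {W : ∀ (Q : Type u) [Group Q], Subgroup Q}
    (hW : IsCharPFunctor.{u} p W) : LocalFamily.{u} p where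
  idx := Unit
  loc := fun _ {_} _ S => functorLoc p W S
  mono := fun _ {G} _ M S => by
    by_cases h : Finite S ∧ IsPGroup p S
    · obtain ⟨h1, h2⟩ := h
      let e : ↥S ≃* ↥(S.map M.subtype) := S.equivMapOfInjective _ M.subtype_injective
      have : Finite ↥(S.map M.subtype) := Finite.of_equiv _ e.toEquiv
      have hmap : (inducedFunctor W S).map M.subtype = inducedFunctor W (S.map M.subtype) := by
        rw [inducedFunctor, inducedFunctor, ← hW.2 ↥S ↥(S.map M.subtype) h2 e, map_map, map_map]
        rfl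
      rw [functorLoc, if_pos ⟨h1, h2⟩, functorLoc, if_pos ⟨inferInstance, h2.map _⟩, ← hmap]
      exact le_normalizer_map _
    · rw [functorLoc, if_neg h, Subgroup.map_bot]
      exact bot_le
  localised := fun _ {G} _ _ S hS hne => by
    have hWf := inducedFunctor_isConjugacyFunctor (G := G) hW
    exact ⟨inducedFunctor W S, functor_ne_bot hWf hS hne, functor_le hWf hS,
      (functorLoc_eq W hS).le, normalizer_le_normalizer_functor hWf hS⟩
  quot := fun _ {G H} _ _ _ f hf hk P => by
    have : Finite H := Finite.of_surjective f hf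
    have hco : (Nat.card f.ker).Coprime p :=
      ((Fact.out : p.Prime).coprime_iff_not_dvd.mpr hk).symm
    rw [functorLoc_eq W (P.2.map f), functorLoc_eq W P.2,
      inducedFunctor_map hW P.2 f (injOn_of_coprime_ker hco P.2)]
    intro y hy
    obtain ⟨x, hx, rfl⟩ := exists_normalizer_preimage hf hco
      (P.2.to_le (inducedFunctor_le _)) hy
    exact mem_map_of_mem f hx
  top_of_normal := ⟨(), fun {G} _ _ P hP => by
    rw [functorLoc_eq W P.2, eq_top_iff, ← normalizer_eq_top_iff.mpr hP]
    exact normalizer_le_normalizer_functor (inducedFunctor_isConjugacyFunctor hW) P.2⟩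

variable {G : Type u} [Group G] [Finite G]

theorem isThin_of_minimal (m : Minimal p G) : IsThin p G := by
  haveI := m.normal
  haveI hcn : (pCore p G).Normal :=
    @Subgroup.normal_of_characteristic _ _ _ Cfsg.Agent.Lib.PSolvable.pCore_characteristic
  refine ⟨pCore p G, m.K, hcn, m.normal, Cfsg.Agent.Lib.PSolvable.pCore_isPGroup,
    fun x hx y hy => by simpa [commutatorElement_def] using m.comm x hx y hy,
    fun x hx => ⟨(pCore p G).relIndex m.K,
      (((Fact.out : p.Prime).coprime_iff_not_dvd).mpr m.coprime).symm, ?_⟩, fun x => ?_⟩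
  · have h := ((pCore p G).subgroupOf m.K).pow_index_mem ⟨x, hx⟩
    rw [mem_subgroupOf] at h
    simpa [relIndex] using h
  · obtain ⟨k, hk, s, hs, rfl⟩ := mem_sup_of_normal_left.mp
      (show x ∈ m.K ⊔ (m.P : Subgroup G) by rw [m.sup_eq]; exact mem_top x)
    obtain ⟨n, hn⟩ := m.P.2 ⟨s, hs⟩
    refine ⟨n, ?_⟩
    rw [← QuotientGroup.eq_one_iff, QuotientGroup.mk_pow, QuotientGroup.mk_mul,
      (QuotientGroup.eq_one_iff k).mpr hk, one_mul, ← QuotientGroup.mk_pow,
      show s ^ p ^ n = 1 from congrArg Subtype.val hn, QuotientGroup.mk_one]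

theorem quotient_core_of_minimal (m : Minimal p G) :
    HasNormalPComplement p (G ⧸ pCore p G) := by
  haveI hcn : (pCore p G).Normal :=
    @Subgroup.normal_of_characteristic _ _ _ Cfsg.Agent.Lib.PSolvable.pCore_characteristic
  let f := QuotientGroup.mk' (pCore p G)
  have hf := QuotientGroup.mk'_surjective (pCore p G)
  haveI := m.normal
  haveI : (m.K.map f).Normal := m.normal.map f hf
  refine Transfer.hasNormalPComplement_of_isPGroup_quotient (m.K.map f) ?_ ?_
  · rw [show Nat.card (m.K.map f) = f.ker.relIndex m.K from (relIndex_ker _ f).symm,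
      QuotientGroup.ker_mk']
    exact m.coprime
  · intro y
    induction y using QuotientGroup.induction_on with
    | H y =>
      obtain ⟨x, rfl⟩ := hf y
      obtain ⟨k, hk, s, hs, rfl⟩ := mem_sup_of_normal_left.mp
        (show x ∈ m.K ⊔ (m.P : Subgroup G) by rw [m.sup_eq]; exact mem_top x)
      obtain ⟨n, hn⟩ := m.P.2 ⟨s, hs⟩
      refine ⟨n, ?_⟩
      rw [map_mul, QuotientGroup.mk_mul, (QuotientGroup.eq_one_iff (f k)).mpr (mem_map_of_mem f hk),
        one_mul, ← QuotientGroup.mk_pow, ← map_pow, show s ^ p ^ n = 1 from congrArg Subtype.val hn,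
        map_one, QuotientGroup.mk_one]

/-- In a good group without normal complement the functor is nowhere normal. -/
theorem not_normal_of_good {W : ∀ (Q : Type u) [Group Q], Subgroup Q}
    (hW : IsCharPFunctor.{u} p W) (hgood : Good (functorFamily hW) G)
    (hG : ¬ HasNormalPComplement p G) (T : Sylow p G) :
    ¬ (inducedFunctor W (T : Subgroup G)).Normal := by
  intro hn
  have h := hgood T ()
  change HasNormalPComplement p (functorLoc p W (T : Subgroup G)) at h
  rw [functorLoc_eq W T.2, normalizer_eq_top_iff.mpr hn] at h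
  exact hG (hasNormalPComplement_top h)

/-- The reduction, read in the sections of `G`. -/
theorem hasNormalPComplement_of_functor {W : ∀ (Q : Type u) [Group Q], Subgroup Q}
    (hW : IsCharPFunctor.{u} p W) (S : Sylow p G)
    (hN : HasNormalPComplement p
      ↥(normalizer ((inducedFunctor W (S : Subgroup G) : Subgroup G) : Set G)))
    (h : ∀ (K R : Subgroup G) [(R.subgroupOf K).Normal],
      IsThin p (↥K ⧸ R.subgroupOf K) →
      centralizer ((pCore p (↥K ⧸ R.subgroupOf K) : Subgroup (↥K ⧸ R.subgroupOf K)) :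
        Set (↥K ⧸ R.subgroupOf K)) ≤ pCore p (↥K ⧸ R.subgroupOf K) →
      HasNormalPComplement p ((↥K ⧸ R.subgroupOf K) ⧸ pCore p (↥K ⧸ R.subgroupOf K)) →
      Good (functorFamily hW) (↥K ⧸ R.subgroupOf K) →
      ¬ HasNormalPComplement p (↥K ⧸ R.subgroupOf K) →
      ∀ T : Sylow p (↥K ⧸ R.subgroupOf K), IsCoatom (T : Subgroup (↥K ⧸ R.subgroupOf K)) →
        False) :
    HasNormalPComplement p G := by
  refine hasNormalPComplement_of_good_rel (functorFamily hW) (fun X _ => Involves X G)
    (fun X _ M hX => involves_trans (involves_subgroup M) hX)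
    (fun X _ N _ hX => involves_trans
      (involves_of_surjective (QuotientGroup.mk'_surjective N)) hX)
    (fun X _ _ hX hgood hnG m => ?_) G involves_refl
    (good_of_one _ S fun _ => by
      show HasNormalPComplement p (functorLoc p W (S : Subgroup G))
      rw [functorLoc_eq W S.2]
      exact hN)
  obtain ⟨K, R, hR, ⟨e⟩⟩ := hX
  set Z := ↥K ⧸ R.subgroupOf K with hZ
  have hes : Function.Surjective e.symm.toMonoidHom := e.symm.surjective
  have hker : ¬ p ∣ Nat.card e.symm.toMonoidHom.ker := by
    rw [(MonoidHom.ker_eq_bot_iff _).2 e.symm.injective, card_bot, Nat.dvd_one]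
    exact (Fact.out : p.Prime).ne_one
  haveI : (pCore p X).Normal :=
    @Subgroup.normal_of_characteristic _ _ _ Cfsg.Agent.Lib.PSolvable.pCore_characteristic
  haveI : (pCore p Z).Normal :=
    @Subgroup.normal_of_characteristic _ _ _ Cfsg.Agent.Lib.PSolvable.pCore_characteristic
  refine h K R ((isThin_of_minimal m).of_surjective hes)
    (constrained_of_mulEquiv e.symm m.centralizer_le) ?_ ?_ ?_ (m.P.mapSurjective hes) ?_
  · exact (Transfer.hasNormalPComplement_congr (QuotientGroup.congr _ _ e.symm
      (Cfsg.Agent.Lib.PSolvable.map_pCore_equiv e.symm))).mp (quotient_core_of_minimal m)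
  · refine good_of_one _ (m.P.mapSurjective hes) fun i => ?_
    exact hasNormalPComplement_of_le
      ((functorFamily hW).quot i e.symm.toMonoidHom hes hker m.P)
      (hasNormalPComplement_map _ (hgood m.P i))
  · exact fun hc => hnG ((Transfer.hasNormalPComplement_congr e.symm).mpr hc)
  · exact (OrderIso.isCoatom_iff e.symm.mapSubgroup _).mpr m.coatom

/-- Fusion controlled by a subgroup with a normal complement. -/
theorem hasNormalPComplement_of_controlsStrongFusion {U : Subgroup G}
    (h : ControlsStrongFusion p U)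
    (hN : HasNormalPComplement p ↥(normalizer (U : Set G))) : HasNormalPComplement p G := by
  obtain ⟨T, hUT, hT⟩ := h
  set N := normalizer (U : Set G) with hNdef
  have hTN : (T : Subgroup G) ≤ N := by
    intro s hs
    refine mem_normalizer_of_cj_le (cj_le_iff.mpr fun u hu => ?_)
    have hsub : (fun a => s * a * s⁻¹) '' (U : Set G) ⊆ (T : Subgroup G) := by
      rintro _ ⟨a, ha, rfl⟩
      exact T.1.mul_mem (T.1.mul_mem hs (hUT ha)) (T.1.inv_mem hs)
    obtain ⟨x, hx, hxe⟩ := (hT U hUT).2 s hsub
    rw [hxe u hu]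
    exact (mem_normalizer_iff.mp hx u).mp hu
  refine Transfer.hasNormalPComplement_of_control T fun x hx g hg => ?_
  have hsub : (fun a => g * a * g⁻¹) '' ({x} : Set G) ⊆ (T : Subgroup G) := by
    rintro _ ⟨a, rfl, rfl⟩
    exact hg
  obtain ⟨k, hk, hke⟩ := (hT {x} (Set.singleton_subset_iff.mpr hx)).2 g hsub
  let T' : Sylow p N := T.subtype hTN
  have hcoe : (T' : Subgroup N) = (T : Subgroup G).subgroupOf N := Sylow.coe_subtype T hTN
  have hc := Transfer.isComplement'_pResidual T' (Transfer.hasNormalPComplement_iff.mp hN)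
  obtain ⟨⟨o, t⟩, hot⟩ := hc.surjective ⟨k, hk⟩
  have ht : (((t : N)) : G) ∈ (T : Subgroup G) := by
    exact mem_subgroupOf.mp (hcoe.le t.2)
  refine ⟨_, ht, ?_⟩
  rw [hke x rfl]
  have hot' : ((o : N) : G) * ((t : N) : G) = k := congrArg Subtype.val hot
  set y : N := (t : N) * ⟨x, hTN hx⟩ * (t : N)⁻¹ with hy
  have hyT : y ∈ (T' : Subgroup N) := by
    rw [hcoe, mem_subgroupOf]
    exact T.1.mul_mem (T.1.mul_mem ht hx) (T.1.inv_mem ht)
  have hzT : (o : N) * y * (o : N)⁻¹ ∈ (T' : Subgroup N) := by
    rw [hcoe, mem_subgroupOf]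
    have h1 : (((o : N) * y * (o : N)⁻¹ : N) : G) = k * x * k⁻¹ := by
      rw [← hot', hy]; push_cast; group
    rw [h1, ← hke x rfl]
    exact hg
  have hO : (o : N) * (y * (o : N)⁻¹ * y⁻¹) ∈ Cfsg.pResidual p N :=
    mul_mem o.2 (Transfer.pResidual_normal.conj_mem _ (inv_mem o.2) y)
  have hT' : (o : N) * (y * (o : N)⁻¹ * y⁻¹) ∈ (T' : Subgroup N) := by
    have := mul_mem hzT (inv_mem hyT)
    simpa [mul_assoc] using this
  have h2 := Subgroup.disjoint_def.mp hc.disjoint hO hT'
  have h3 : (o : N) * y * (o : N)⁻¹ = y := by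
    rw [← mul_inv_eq_one, ← h2]; group
  have h4 := congrArg Subtype.val h3
  rw [hy] at h4
  push_cast at h4
  rw [← hot', ← h4]
  group

/-- A `p`-automizer of a centralizing `p`-subgroup gives a normal complement to its normalizer. -/
theorem hasNormalPComplement_normalizer_of_automizer (S : Sylow p G) {T : Subgroup G}
    (_hTS : T ≤ (S : Subgroup G)) (hTn : (S : Subgroup G) ≤ normalizer (T : Set G))
    (hC : (S : Subgroup G) ⊓ centralizer (T : Set G) ≤ T)
    (hN : ∀ g ∈ normalizer (T : Set G), (orderOf g).Coprime p → g ∈ centralizer (T : Set G)) :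
    HasNormalPComplement p ↥(normalizer (T : Set G)) := by
  set N := normalizer (T : Set G) with hNdef
  set C := (centralizer (T : Set G)).subgroupOf N with hCdef
  haveI hCn : C.Normal := normal_subgroupOf_centralizer_normalizer (T : Set G)
  let S' : Sylow p N := S.subtype hTn
  have hS' : (S' : Subgroup N) = (S : Subgroup G).subgroupOf N := Sylow.coe_subtype S hTn
  have hD : IsSylowIn p C ((S' : Subgroup N) ⊓ C) :=
    (isSylowIn_top_of_sylow S').inf_normal le_top (le_normalizer_of_normal)
  obtain ⟨D, hDeq⟩ := hD.exists_sylow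
  have hDc : normalizer ((D : Subgroup C) : Set C) ≤ centralizer ((D : Subgroup C) : Set C) := by
    intro x _ d hd
    rw [hDeq] at hd
    have h1 : (d : N) ∈ (S' : Subgroup N) ⊓ C := mem_subgroupOf.mp hd
    rw [hS'] at h1
    have h2 : ((d : N) : G) ∈ T := hC ⟨mem_subgroupOf.mp h1.1, mem_subgroupOf.mp h1.2⟩
    exact Subtype.ext (Subtype.ext ((mem_subgroupOf.mp x.2) _ h2))
  have hnpc := Transfer.hasNormalPComplement_of_normalizer_le_centralizer D hDc
  set O := (Cfsg.pResidual p C).map C.subtype with hO
  have hOn : O.Normal := by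
    have := Transfer.pResidual_characteristic (G := C) (p := p)
    infer_instance
  have hle : Cfsg.pResidual p N ≤ O := Transfer.pResidual_le_iff.mpr fun g hg => by
    have hgC : g ∈ C := mem_subgroupOf.mpr (hN g g.2 (by rwa [Subgroup.orderOf_coe]))
    exact Transfer.mem_map_pResidual_of_coprime hgC hg
  rw [Transfer.hasNormalPComplement_iff] at hnpc ⊢
  intro hd
  apply hnpc
  refine hd.trans ((card_dvd_of_le hle).trans (dvd_of_eq ?_))
  rw [hO, card_map_of_injective C.subtype_injective]

end Cfsg.Agent.Lib.Functor
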