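import Cfsg.Agent.Lib.ThompsonNPC.Reduction

/-!
# The reduction for normal `p`-complements, relative to a class of groups

The proof of `ThompsonNPC.hasNormalPComplement_of_good`, carried out inside a class of groups
closed under subgroups and quotients.
-/

namespace Cfsg.Agent.Lib.Functor

open Subgroup
open Cfsg.Agent.Lib
open Cfsg.Agent.Lib.ThompsonNPC

universe u

variable {p : ℕ} [Fact p.Prime]

/-- **The reduction**: to prove that `Good` groups have normal `p`-complements it suffices to
refute `Minimal` configurations. -/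
theorem hasNormalPComplement_of_good_rel (F : LocalFamily.{u} p)
    (Inv : ∀ (X : Type u) [Group X], Prop)
    (hInvS : ∀ (X : Type u) [Group X] (M : Subgroup X), Inv X → Inv M)
    (hInvQ : ∀ (X : Type u) [Group X] (N : Subgroup X) [N.Normal], Inv X → Inv (X ⧸ N))
    (hmin : ∀ (G : Type u) [Group G] [Finite G], Inv G → Good F G →
      ¬ Cfsg.HasNormalPComplement p G → Minimal p G → False)
    (G : Type u) [Group G] [Finite G] (hInv : Inv G) (hgood : Good F G) :
    Cfsg.HasNormalPComplement p G := by
  induction hn : Nat.card G using Nat.strong_induction_on generalizing G with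
  | _ n IH =>
  subst hn
  by_contra hG
  have hp : p.Prime := Fact.out
  have hsub : ∀ M : Subgroup G, M ≠ ⊤ → Good F M → Cfsg.HasNormalPComplement p M := by
    intro M hM h
    refine IH _ ?_ M (hInvS G M hInv) h rfl
    exact lt_of_le_of_ne (card_le_card_group M) fun he => hM (eq_top_of_card_eq _ he)
  -- choose a local subgroup without a normal complement
  set bad : Set (Subgroup G) := {H | IsPGroup p H ∧ H ≠ ⊥ ∧
    ¬ Cfsg.HasNormalPComplement p (normalizer (H : Set G))}
  have hne : bad.Nonempty := by
    by_contra h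
    rw [Set.not_nonempty_iff_eq_empty] at h
    refine hG (Transfer.hasNormalPComplement_iff_forall_normalizer.2 fun Q hQ hQ1 => ?_)
    by_contra hbad
    exact Set.eq_empty_iff_forall_notMem.1 h Q ⟨hQ, hQ1, hbad⟩
  set ν : Subgroup G → ℕ := fun H => (Nat.card (normalizer (H : Set G))).factorization p
  obtain ⟨H₀, hH₀, hmax₀⟩ := Set.exists_max_image bad ν (Set.toFinite _) hne
  obtain ⟨H, ⟨hH, hνH⟩, hmaxH⟩ := Set.exists_max_image {H ∈ bad | ν H₀ ≤ ν H}
    (fun H => Nat.card H) (Set.toFinite _) ⟨H₀, hH₀, le_rfl⟩
  obtain ⟨hHp, hH1, hHbad⟩ := hH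
  have hmaxν : ∀ Q : Subgroup G, IsPGroup p Q → Q ≠ ⊥ → ν H < ν Q →
      Cfsg.HasNormalPComplement p (normalizer (Q : Set G)) := by
    intro Q h1 h2 h3
    by_contra h4
    have := hmax₀ Q ⟨h1, h2, h4⟩
    omega
  -- `H` is normal
  have hHn : H.Normal := by
    rw [← normalizer_eq_top_iff]
    by_contra hN
    apply hHbad
    refine hsub _ hN ?_
    set N := normalizer (H : Set G)
    intro S i
    obtain ⟨R, hR⟩ := (S.2.map N.subtype).exists_le_sylow
    set S' := (S : Subgroup N).map N.subtype with hS'
    have hS'card : Nat.card S' = p ^ ν H := by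
      rw [hS', card_map_of_injective N.subtype_injective, S.card_eq_multiplicity]
    refine (Transfer.hasNormalPComplement_congr (p := p)
      ((F.loc i (S : Subgroup N)).equivMapOfInjective _ N.subtype_injective)).2
      (hasNormalPComplement_of_le (F.mono i N S) ?_)
    rcases eq_or_lt_of_le hR with heq | hlt
    · show Cfsg.HasNormalPComplement p (F.loc i S')
      rw [heq]; exact hgood R i
    · have hS'p : IsPGroup p S' := S.2.map _
      have hHS : H ≤ S' := by
        intro h hh
        refine ⟨⟨h, le_normalizer hh⟩, ?_, rfl⟩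
        have hn : (H.subgroupOf N).Normal := normal_in_normalizer
        exact ((IsPGroup.of_equiv hHp
          (subgroupOfEquivOfLe (le_normalizer : H ≤ N)).symm).le_sylow_of_normal S)
          (mem_subgroupOf.2 hh)
      have hS'1 : S' ≠ ⊥ := fun h => hH1 (le_bot_iff.1 (h ▸ hHS))
      obtain ⟨W, hW1, hWS, hloc, hnorm⟩ := F.localised i S' hS'p hS'1
      refine hasNormalPComplement_of_le hloc (hmaxν W (hS'p.to_le hWS) hW1 ?_)
      have h1 := Transfer.lt_inf_normalizer R.2 hlt
      have h2 : Nat.card S' < Nat.card ((R : Subgroup G) ⊓ normalizer (S' : Set G) : Subgroup G) :=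
        Set.ncard_lt_ncard h1 (Set.toFinite _)
      have h3 := sylow_card_le (p := p) (R.2.to_le inf_le_left)
        (inf_le_right.trans hnorm : (R : Subgroup G) ⊓ normalizer (S' : Set G) ≤ _)
      exact (Nat.pow_lt_pow_iff_right hp.one_lt).1 (hS'card ▸ h2.trans_le h3)
  -- `H` is the `p`-core
  have hνtop : ν H = (Nat.card G).factorization p := by
    show (Nat.card (normalizer (H : Set G))).factorization p = _
    rw [normalizer_eq_top_iff.2 hHn, card_top]
  have hbig : ∀ Q : Subgroup G, IsPGroup p Q → ν H ≤ ν Q → Nat.card H < Nat.card Q →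
      Cfsg.HasNormalPComplement p (normalizer (Q : Set G)) := by
    intro Q h1 h2 h3
    by_contra h4
    have hQ1 : Q ≠ ⊥ := by
      rintro rfl
      rw [card_bot] at h3
      have := Nat.card_pos (α := H)
      omega
    have := hmaxH Q ⟨⟨h1, hQ1, h4⟩, hνH.trans h2⟩
    omega
  have hcore : H = pCore p G := by
    refine eq_of_le_of_card_ge (PSolvable.le_pCore (hN := hHn) hHp) ?_
    by_contra hlt
    push_neg at hlt
    have := hbig _ PSolvable.pCore_isPGroup ?_ hlt
    · rw [normalizer_eq_top_iff.2 inferInstance] at this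
      exact hG (hasNormalPComplement_top this)
    · show _ ≤ (Nat.card (normalizer _)).factorization p
      rw [hνtop, normalizer_eq_top_iff.2 inferInstance, card_top]
  subst hcore
  set H := pCore p G with hHdef
  -- a Sylow subgroup
  let P : Sylow p G := default
  have hHP : H ≤ (P : Subgroup G) := PSolvable.pCore_le_sylow P
  have hne_top : (P : Subgroup G) ≠ ⊤ := fun h =>
    hG (Transfer.hasNormalPComplement_of_isPGroup (IsPGroup.of_equiv P.2
      ((MulEquiv.subgroupCongr h).trans Subgroup.topEquiv)))
  have hHP' : H ≠ (P : Subgroup G) := by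
    intro h
    obtain ⟨i, hi⟩ := F.top_of_normal
    have := hgood P i
    rw [hi P (h ▸ (inferInstance : (pCore p G).Normal))] at this
    exact hG (hasNormalPComplement_top this)
  -- the quotient by the `p`-core has a normal complement
  have hQ : Cfsg.HasNormalPComplement p (G ⧸ H) := by
    have hlt : Nat.card (G ⧸ H) < Nat.card G := by
      have h1 := H.card_mul_index
      have h2 : 1 < Nat.card H := Finite.one_lt_card_iff_nontrivial.2
        ((nontrivial_iff_ne_bot H).2 hH1)
      show H.index < _
      rw [← h1]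
      exact lt_mul_of_one_lt_left (Nat.pos_of_ne_zero index_ne_zero_of_finite) h2
    refine IH _ hlt _ (hInvQ G _ hInv) (fun S i => ?_) rfl
    set π := QuotientGroup.mk' H with hπ
    have hπs : Function.Surjective π := QuotientGroup.mk'_surjective H
    obtain ⟨P', rfl⟩ := Sylow.mapSurjective_surjective hπs p S
    have hHP2 : H ≤ (P' : Subgroup G) := PSolvable.pCore_le_sylow P'
    have hker : π.ker = H := QuotientGroup.ker_mk' H
    have hS1 : (P' : Subgroup G).map π ≠ ⊥ := by
      rw [Ne, Subgroup.map_eq_bot_iff, hker]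
      intro hle
      have heq : H = (P' : Subgroup G) := le_antisymm hHP2 hle
      apply hHP'
      refine eq_of_le_of_card_ge hHP ?_
      rw [heq, P.card_eq_multiplicity, P'.card_eq_multiplicity]
    obtain ⟨W, hW1, hWS, hloc, hnorm⟩ := F.localised i _ (P'.2.map π) hS1
    refine hasNormalPComplement_of_le hloc ?_
    rw [← map_comap_eq_self_of_surjective hπs (normalizer (W : Set (G ⧸ H)))]
    refine hasNormalPComplement_map π ?_
    rw [comap_normalizer_eq_of_surjective W hπs]
    have hKP : W.comap π ≤ (P' : Subgroup G) := by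
      refine (comap_mono hWS).trans ?_
      rw [comap_map_eq, hker, sup_eq_left.2 hHP2]
    refine hbig _ (P'.2.to_le hKP) ?_ ?_
    · rw [hνtop]
      have hle : (P' : Subgroup G) ≤ normalizer (W.comap π : Set G) := by
        rw [← comap_normalizer_eq_of_surjective W hπs]
        exact fun x hx => hnorm (le_normalizer (mem_map_of_mem π hx))
      have := sylow_card_le (p := p) P'.2 hle
      rw [P'.card_eq_multiplicity] at this
      exact (Nat.pow_le_pow_iff_right hp.one_lt).1 this
    · have hle : π.ker ≤ W.comap π := fun x hx =>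
        mem_comap.2 ((MonoidHom.mem_ker.1 hx).symm ▸ one_mem W)
      rw [hker] at hle
      refine lt_of_le_of_ne (card_le_of_le hle) ?_
      intro he
      apply hW1
      have := eq_of_le_of_card_ge hle
        he.ge
      rw [← map_comap_eq_self_of_surjective hπs W, ← this]
      exact (Subgroup.map_eq_bot_iff H).2 hker.ge
  -- the `p'`-core is trivial
  have hL : pPrimeCore p G = ⊥ := by
    by_contra hL1
    set L := pPrimeCore p G with hLdef
    have hLp : ¬ p ∣ Nat.card L := PSolvable.pPrimeCore_not_dvd
    have hlt : Nat.card (G ⧸ L) < Nat.card G := by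
      have h1 := L.card_mul_index
      have h2 : 1 < Nat.card L := Finite.one_lt_card_iff_nontrivial.2
        ((nontrivial_iff_ne_bot L).2 hL1)
      show L.index < _
      rw [← h1]
      exact lt_mul_of_one_lt_left (Nat.pos_of_ne_zero index_ne_zero_of_finite) h2
    have hπs := QuotientGroup.mk'_surjective L
    have hnpc : Cfsg.HasNormalPComplement p (G ⧸ L) := IH _ hlt _ (hInvQ G _ hInv) (fun S i => by
      obtain ⟨P', rfl⟩ := Sylow.mapSurjective_surjective hπs p S
      exact hasNormalPComplement_of_le
        (F.quot i (QuotientGroup.mk' L) hπs (by rwa [QuotientGroup.ker_mk']) P')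
        (hasNormalPComplement_map _ (hgood P' i))) rfl
    apply hG
    rw [Transfer.hasNormalPComplement_iff_forall] at hnpc ⊢
    intro g hg
    have h1 := hnpc _ (Transfer.map_pResidual_le (QuotientGroup.mk' L) (mem_map_of_mem _ hg))
    set m := orderOf (QuotientGroup.mk' L g)
    have h2 : g ^ m ∈ L := by
      rw [← QuotientGroup.eq_one_iff, ← QuotientGroup.mk'_apply, map_pow, pow_orderOf_eq_one]
    have h3 : g ^ (m * Nat.card L) = 1 := by
      rw [pow_mul]
      exact orderOf_dvd_iff_pow_eq_one.1 ((L.orderOf_dvd_natCard h2))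
    exact Nat.Coprime.coprime_dvd_left (orderOf_dvd_of_pow_eq_one h3)
      (h1.mul_left (hp.coprime_iff_not_dvd.2 hLp).symm)
  set π := QuotientGroup.mk' H with hπ
  have hπs : Function.Surjective π := QuotientGroup.mk'_surjective H
  have hker : π.ker = H := QuotientGroup.ker_mk' H
  set Kb := Cfsg.pResidual p (G ⧸ H) with hKb
  have hKbp : ¬ p ∣ Nat.card Kb := Transfer.hasNormalPComplement_iff.1 hQ
  set K := Kb.comap π with hK
  have hHK : H ≤ K := hker ▸ (fun x hx => mem_comap.2 ((MonoidHom.mem_ker.1 hx).symm ▸ one_mem Kb) : π.ker ≤ Kb.comap π)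
  set Pb : Sylow p (G ⧸ H) := P.mapSurjective hπs
  have hPb : (Pb : Subgroup (G ⧸ H)) = (P : Subgroup G).map π := rfl
  have hcomapP : ((Pb : Subgroup (G ⧸ H))).comap π = (P : Subgroup G) := by
    rw [hPb, comap_map_eq, hker, sup_eq_left.2 hHP]
  have hcompl : Kb.IsComplement' (Pb : Subgroup (G ⧸ H)) :=
    Transfer.isComplement'_pResidual Pb hKbp
  have hinf : K ⊓ (P : Subgroup G) = H := by
    rw [← hcomapP, hK, ← comap_inf, hcompl.disjoint.eq_bot, MonoidHom.comap_bot, hker]
  have hsup : K ⊔ (P : Subgroup G) = ⊤ := by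
    rw [← hcomapP, hK, comap_sup_eq π _ _ hπs, hcompl.sup_eq_top, comap_top]
  -- proper subgroups containing `P` have normal complements
  have hproper : ∀ M : Subgroup G, (P : Subgroup G) ≤ M → M ≠ ⊤ →
      Cfsg.HasNormalPComplement p M := fun M h1 h2 =>
    hasNormalPComplement_of_sylow_le F hgood P h1 (hsub M h2)
  -- `C(H) ≤ H`
  have hCH : centralizer (H : Set G) ≤ H := by
    set C := centralizer (H : Set G) with hC
    have hCn : C.Normal := inferInstance
    have hKn : K.Normal := inferInstance
    set X := C ⊓ K with hX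
    have hXn : X.Normal := inferInstance
    have hXH : X ≤ H := by
      -- `X ∩ H` is a central Sylow subgroup of `X`
      have hD : IsPGroup p ((H ⊓ X).subgroupOf X) :=
        IsPGroup.of_equiv (hHp.to_le inf_le_left) (subgroupOfEquivOfLe inf_le_right).symm
      have hdx : ¬ p ∣ ((H ⊓ X).subgroupOf X).index := by
        intro hd
        apply hKbp
        have h1 : ((H ⊓ X).subgroupOf X).index = H.relIndex X := by
          rw [← relIndex, inf_relIndex_right]
        rw [h1] at hd
        have h2 : H.relIndex X ∣ H.relIndex K := by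
          rw [← relIndex_sup_right (H := X) H]
          exact Dvd.intro _ (relIndex_mul_relIndex H (X ⊔ H) K le_sup_right (sup_le inf_le_right hHK))
        refine (hd.trans h2).trans (dvd_of_eq ?_)
        have h3 : H = (⊥ : Subgroup (G ⧸ H)).comap π := by rw [MonoidHom.comap_bot, hker]
        conv_lhs => rw [h3]
        rw [hK, relIndex_comap, map_comap_eq_self_of_surjective hπs, relIndex_bot_left]
      let D : Sylow p X := hD.toSylow hdx
      have hDc : normalizer ((D : Subgroup X) : Set X) ≤ centralizer ((D : Subgroup X) : Set X) := by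
        intro x _
        rw [mem_centralizer_iff]
        intro d hd
        exact Subtype.ext (mem_centralizer_iff.1 x.2.1 _ (mem_subgroupOf.1 hd).1)
      have hXnpc := Transfer.hasNormalPComplement_of_normalizer_le_centralizer D hDc
      set O := (Cfsg.pResidual p X).map X.subtype
      have hOn : O.Normal := by
        have := Transfer.pResidual_characteristic (G := X) (p := p)
        infer_instance
      have hOL : O ≤ pPrimeCore p G := PSolvable.le_pPrimeCore (hN := hOn) (by
        rw [card_map_of_injective X.subtype_injective]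
        exact (hp.coprime_iff_not_dvd.2 (Transfer.hasNormalPComplement_iff.1 hXnpc)).symm)
      rw [hL, le_bot_iff, Subgroup.map_eq_bot_iff, ker_subtype, le_bot_iff] at hOL
      have hXp : IsPGroup p X := by
        have h := Transfer.isPGroup_quotient_pResidual (G := X) (p := p)
        exact h.of_equiv ((QuotientGroup.quotientMulEquivOfEq hOL).trans QuotientGroup.quotientBot)
      exact PSolvable.le_pCore (hN := hXn) hXp
    have hCb : C.map π ≤ pCore p (G ⧸ H) := by
      have hCbn : (C.map π).Normal := hCn.map π hπs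
      refine PSolvable.le_pCore (hN := hCbn) ?_
      have hdisj : C.map π ⊓ Kb = ⊥ := by
        rw [_root_.eq_bot_iff]
        rintro _ ⟨⟨c, hc, rfl⟩, hcK⟩
        exact mem_bot.2 ((QuotientGroup.eq_one_iff c).2 (hXH ⟨hc, hcK⟩))
      refine IsPGroup.of_injective (Transfer.isPGroup_quotient_pResidual (G := G ⧸ H) (p := p))
        ((QuotientGroup.mk' Kb).comp (C.map π).subtype) ?_
      rw [← MonoidHom.ker_eq_bot_iff, _root_.eq_bot_iff]
      intro x hx
      rw [MonoidHom.mem_ker, MonoidHom.comp_apply, QuotientGroup.mk'_apply,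
        QuotientGroup.eq_one_iff] at hx
      have : (x : G ⧸ H) ∈ C.map π ⊓ Kb := ⟨x.2, hx⟩
      rw [hdisj, mem_bot] at this
      exact mem_bot.2 (Subtype.ext this)
    rw [PSolvable.pCore_quotient_eq_bot, le_bot_iff, Subgroup.map_eq_bot_iff, hker] at hCb
    exact hCb
  -- `P` is maximal
  have hcoatom : IsCoatom (P : Subgroup G) := by
    refine ⟨hne_top, fun M hM => ?_⟩
    by_contra hMtop
    have hnpc := hproper M hM.le hMtop
    set O := (Cfsg.pResidual p M).map M.subtype with hO
    have hOcard : ¬ p ∣ Nat.card O := by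
      rw [hO, card_map_of_injective M.subtype_injective]
      exact Transfer.hasNormalPComplement_iff.1 hnpc
    have hHM : H ≤ M := hHP.trans hM.le
    have hOC : O ≤ centralizer (H : Set G) := by
      rintro _ ⟨o, ho, rfl⟩
      rw [mem_centralizer_iff]
      intro h hh
      have hmem : h * (o : G) * h⁻¹ * (o : G)⁻¹ ∈ O ⊓ H := by
        refine mem_inf.2 ⟨O.mul_mem ?_ (O.inv_mem (show (o : G) ∈ O from mem_map_of_mem M.subtype ho)), ?_⟩
        · exact ⟨⟨h, hHM hh⟩ * o * ⟨h, hHM hh⟩⁻¹, Transfer.pResidual_normal.conj_mem o ho _, rfl⟩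
        · rw [show h * (o : G) * h⁻¹ * (o : G)⁻¹ = h * ((o : G) * h⁻¹ * (o : G)⁻¹) by group]
          exact mul_mem hh ((inferInstance : (pCore p G).Normal).conj_mem _ (inv_mem hh) _)
      have hbot : O ⊓ H = ⊥ := by
        rw [inf_comm]
        exact PSolvable.inf_eq_bot_of_isPGroup_of_coprime hHp (hp.coprime_iff_not_dvd.2 hOcard).symm
      rw [hbot, mem_bot, mul_inv_eq_one, mul_inv_eq_iff_eq_mul] at hmem
      exact hmem
    have hObot : O = ⊥ :=
      PSolvable.eq_bot_of_isPGroup_of_coprime (hHp.to_le (hOC.trans hCH))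
        (hp.coprime_iff_not_dvd.2 hOcard).symm
    have hMp : IsPGroup p M := by
      have h := Transfer.isPGroup_quotient_pResidual (G := M) (p := p)
      rw [hO, Subgroup.map_eq_bot_iff, ker_subtype, le_bot_iff] at hObot
      exact h.of_equiv ((QuotientGroup.quotientMulEquivOfEq hObot).trans QuotientGroup.quotientBot)
    exact hM.ne (P.is_maximal' hMp hM.le).symm
  -- `K / H` is abelian
  have hKbn : Kb.Normal := inferInstance
  have hKb1 : Kb ≠ ⊥ := by
    intro h
    apply hne_top
    rw [← hsup, hK, h, MonoidHom.comap_bot, hker, sup_eq_right.2 hHP]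
  have hinvariant : ∀ D : Subgroup (G ⧸ H), D ≤ Kb →
      (Pb : Subgroup (G ⧸ H)) ≤ normalizer (D : Set (G ⧸ H)) → D = ⊥ ∨ D = Kb := by
    intro D hDK hPD
    rcases eq_or_lt_of_le (show (P : Subgroup G) ≤ (D ⊔ (Pb : Subgroup (G ⧸ H))).comap π from
      fun x hx => mem_comap.2 (mem_sup_right (mem_map_of_mem π hx))) with h | h
    · left
      rw [← le_bot_iff, ← hcompl.disjoint.eq_bot]
      refine le_inf hDK ?_
      have : (D ⊔ (Pb : Subgroup (G ⧸ H))) = (Pb : Subgroup (G ⧸ H)) := by
        rw [← map_comap_eq_self_of_surjective hπs (D ⊔ (Pb : Subgroup (G ⧸ H))), ← h]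
        rfl
      exact le_sup_left.trans this.le
    · right
      have htop : D ⊔ (Pb : Subgroup (G ⧸ H)) = ⊤ := by
        have := hcoatom.2 _ h
        rw [← map_comap_eq_self_of_surjective hπs (D ⊔ (Pb : Subgroup (G ⧸ H))), this,
          map_top_of_surjective π hπs]
      refine le_antisymm hDK fun k hk => ?_
      have hk' : k ∈ ((D ⊔ (Pb : Subgroup (G ⧸ H)) : Subgroup (G ⧸ H)) : Set (G ⧸ H)) := by
        rw [htop]; trivial
      rw [sup_comm, coe_mul_of_left_le_normalizer_right _ _ hPD] at hk'
      obtain ⟨x, hx, d, hd, rfl⟩ := hk'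
      have hxK : x ∈ Kb := by
        have := mul_mem hk (inv_mem (hDK hd))
        rwa [mul_inv_cancel_right] at this
      show x * d ∈ D
      rw [Subgroup.disjoint_def.1 hcompl.disjoint hxK hx, one_mul]
      exact hd
  have hcop : (Nat.card (Pb : Subgroup (G ⧸ H))).Coprime (Nat.card Kb) := by
    rw [Pb.card_eq_multiplicity]
    exact (hp.coprime_iff_not_dvd.2 hKbp).pow_left _
  have hsolv : Group.IsSolvable (Pb : Subgroup (G ⧸ H)) := by
    have := Pb.2.isNilpotent
    infer_instance
  have hPK : (Pb : Subgroup (G ⧸ H)) ≤ normalizer (Kb : Set (G ⧸ H)) := by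
    rw [normalizer_eq_top_iff.2 hKbn]; exact le_top
  obtain ⟨q, hq, hqd⟩ := Nat.exists_prime_and_dvd
    (show Nat.card Kb ≠ 1 from fun h => hKb1 (eq_bot_of_card_eq _ h))
  have := Fact.mk hq
  obtain ⟨T, hT⟩ := Coprime.exists_invariant_sylow (p := q) hPK hcop (Or.inl hsolv)
  have hTeq : (T : Subgroup Kb).map Kb.subtype = Kb := by
    refine (hinvariant _ (map_subtype_le _) hT).resolve_left fun h => ?_
    rw [Subgroup.map_eq_bot_iff, ker_subtype, le_bot_iff] at h
    have := T.ne_bot_of_dvd_card hqd
    exact this h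
  have hKbq : IsPGroup q Kb := by
    have := T.2.map Kb.subtype
    rwa [hTeq] at this
  have hKbab : (_root_.commutator Kb).map Kb.subtype = ⊥ := by
    refine (hinvariant _ (map_subtype_le _) ?_).resolve_right fun h => ?_
    · have : ((_root_.commutator Kb).map Kb.subtype).Normal := inferInstance
      rw [normalizer_eq_top_iff.2 this]; exact le_top
    · have htop : _root_.commutator Kb = ⊤ :=
        map_injective Kb.subtype_injective (by rw [h, ← MonoidHom.range_eq_map, range_subtype])
      have := hKbq.isNilpotent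
      obtain ⟨n, hn⟩ := Subgroup.nilpotent_iff_lowerCentralSeries.1 this
      have hall : ∀ m, (⊤ : Subgroup Kb).lowerCentralSeries m = ⊤ := by
        intro m
        induction m with
        | zero => rfl
        | succ m ihm => rw [Subgroup.lowerCentralSeries_succ, ihm]; exact htop
      rw [hall] at hn
      apply hKb1
      rw [← range_subtype Kb, MonoidHom.range_eq_map, hn, Subgroup.map_bot]
  refine hmin G hInv hgood hG
    ⟨P, K, hcoatom, hHK, inferInstance, hsup, hinf, ?_, ?_, hCH, hHP', hne_top⟩
  · intro x hx y hy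
    show _ ∈ H
    rw [← hker, MonoidHom.mem_ker]
    have h1 : (π x) * π y * (π x)⁻¹ * (π y)⁻¹ ∈ (_root_.commutator Kb).map Kb.subtype :=
      ⟨_, commutator_mem_commutator (mem_top (⟨π x, hx⟩ : Kb)) (mem_top ⟨π y, hy⟩), rfl⟩
    rw [hKbab, mem_bot] at h1
    simpa only [map_mul, map_inv] using h1
  · have h3 : H = (⊥ : Subgroup (G ⧸ H)).comap π := by rw [MonoidHom.comap_bot, hker]
    show ¬ p ∣ H.relIndex K
    rw [h3]
    rw [hK, relIndex_comap, map_comap_eq_self_of_surjective hπs, relIndex_bot_left]
    exact hKbp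

end Cfsg.Agent.Lib.Functor
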